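import Groth.Agent.L27.EtSite.EtaLocal
import Groth.Agent.L27.EtSite.DescTop
import Groth.Agent.L27.BigSets.Forget
import Groth.Prelude.Def_SGA4b
import Mathlib.Topology.LocallyConstant.Basic
import Mathlib.CategoryTheory.Sites.ConstantSheaf

/-! # Global sections of constant sheaves of sets as locally constant functions -/

universe u

open CategoryTheory CategoryTheory.Limits AlgebraicGeometry Opposite TopologicalSpace

set_option autoImplicit false
set_option backward.isDefEq.respectTransparency.types false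
set_option linter.style.haveILetI false
set_option linter.unusedSectionVars false
set_option linter.unusedVariables false

noncomputable section

namespace Groth.L23.ZeroAcyc

open Groth.L27.EtSite

variable (I : Type u)

/-- The constant sheaf of sets. -/
abbrev K (X : Scheme.{u}) : EtDesc.Sh X :=
  (constantSheaf X.smallEtaleTopology (Type (u + 1))).obj (ULift.{u + 1} I)

variable {X : Scheme.{u}}

/-- A constant section. -/
def c (V : X.Etale) (m : I) : (K I X).obj.obj (op V) :=
  (toSheafify X.smallEtaleTopology ((Functor.const X.Etaleᵒᵖ).obj (ULift.{u + 1} I : Type (u + 1)))).app (op V) (ULift.up m)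

theorem c_map {V W : X.Etale} (g : W ⟶ V) (m : I) : (K I X).obj.map g.op (c I V m) = c I W m :=
  (NatTrans.naturality_apply
    (toSheafify X.smallEtaleTopology ((Functor.const X.Etaleᵒᵖ).obj (ULift.{u + 1} I : Type (u + 1)))) g.op _).symm

theorem c_inj {V : X.Etale} (v : V.left) : Function.Injective (c I V) := fun a b hab => by
  obtain ⟨W, g, w, hg, -⟩ := (mem_topology_iff _).1 (Presheaf.equalizerSieve_mem (X := op V) X.smallEtaleTopology
    (toSheafify X.smallEtaleTopology ((Functor.const X.Etaleᵒᵖ).obj (ULift.{u + 1} I : Type (u + 1))))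
    (show ToType (((Functor.const X.Etaleᵒᵖ).obj (ULift.{u + 1} I : Type (u + 1))).obj (op V)) from ULift.up a)
    (show ToType (((Functor.const X.Etaleᵒᵖ).obj (ULift.{u + 1} I : Type (u + 1))).obj (op V)) from ULift.up b) hab) v
  exact congrArg ULift.down hg

variable {I} {V : X.Etale}

/-- A section takes the value `m` near the point `x`. -/
def HasVal (s : (K I X).obj.obj (op V)) (x : V.left) (m : I) : Prop :=
  ∃ (W : X.Etale) (g : W ⟶ V) (w : W.left), g.left.base w = x ∧ (K I X).obj.map g.op s = c I W m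

theorem exists_hasVal (s : (K I X).obj.obj (op V)) (x : V.left) : ∃ m, HasVal s x m := by
  obtain ⟨W, g, w, hg, hw⟩ := (mem_topology_iff _).1 (Presheaf.imageSieve_mem X.smallEtaleTopology
    (toSheafify X.smallEtaleTopology ((Functor.const X.Etaleᵒᵖ).obj (ULift.{u + 1} I : Type (u + 1)))) s) x
  obtain ⟨t, ht⟩ := hg
  exact ⟨ULift.down t, W, g, w, hw, ht.symm⟩

theorem hasVal_unique {s : (K I X).obj.obj (op V)} {x : V.left} {a b : I}
    (ha : HasVal s x a) (hb : HasVal s x b) : a = b := by
  obtain ⟨W₁, g₁, w₁, h₁, e₁⟩ := ha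
  obtain ⟨W₂, g₂, w₂, h₂, e₂⟩ := hb
  obtain ⟨W, p₁, p₂, w, -, -, e⟩ := exists_common g₁ g₂ w₁ w₂ (h₁.trans h₂.symm)
  refine c_inj I w ((c_map I p₁ a).symm.trans (Eq.trans ?_ (c_map I p₂ b)))
  rw [← e₁, ← e₂, ← Functor.map_comp_apply, ← Functor.map_comp_apply, ← op_comp, ← op_comp, e]

/-- The value of a section at a point. -/
def val (s : (K I X).obj.obj (op V)) (x : V.left) : I := (exists_hasVal s x).choose

theorem hasVal_val (s : (K I X).obj.obj (op V)) (x : V.left) : HasVal s x (val s x) :=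
  (exists_hasVal s x).choose_spec

theorem val_eq {s : (K I X).obj.obj (op V)} {x : V.left} {m : I} (h : HasVal s x m) : val s x = m :=
  hasVal_unique (hasVal_val s x) h

theorem val_c (m : I) (x : V.left) : val (c I V m) x = m :=
  val_eq ⟨V, 𝟙 V, x, rfl, c_map I (𝟙 V) m⟩

theorem val_map {W : X.Etale} (g : W ⟶ V) (s : (K I X).obj.obj (op V)) (w : W.left) :
    val ((K I X).obj.map g.op s) w = val s (g.left.base w) := by
  obtain ⟨W₁, g₁, w₁, h₁, e₁⟩ := hasVal_val ((K I X).obj.map g.op s) w
  refine (val_eq ⟨W₁, g₁ ≫ g, w₁, (Scheme.Hom.comp_apply _ _ _).trans (congrArg g.left.base h₁), ?_⟩).symm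
  rw [op_comp, Functor.map_comp_apply, e₁]

theorem isLocallyConstant_val (s : (K I X).obj.obj (op V)) : IsLocallyConstant (val s) := by
  refine (IsLocallyConstant.iff_exists_open _).2 fun x => ?_
  obtain ⟨W, g, w, hg, e⟩ := hasVal_val s x
  haveI := etale_left g
  refine ⟨Set.range g.left, g.left.isOpenMap.isOpen_range, ⟨w, hg⟩, ?_⟩
  rintro _ ⟨w', rfl⟩
  exact val_eq ⟨W, g, w', rfl, e⟩

theorem val_injective (s t : (K I X).obj.obj (op V)) (h : ∀ x, val s x = val t x) : s = t := by
  refine ext_of_locally (K I X) fun x => ?_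
  obtain ⟨W₁, g₁, w₁, h₁, e₁⟩ := hasVal_val s x
  obtain ⟨W₂, g₂, w₂, h₂, e₂⟩ := hasVal_val t x
  obtain ⟨W, p₁, p₂, w, hw₁, -, e⟩ := exists_common g₁ g₂ w₁ w₂ (h₁.trans h₂.symm)
  refine ⟨W, p₁ ≫ g₁, w, (Scheme.Hom.comp_apply _ _ _).trans ((congrArg g₁.left.base hw₁).trans h₁), ?_⟩
  conv_rhs => rw [e]
  rw [op_comp, op_comp, Functor.map_comp_apply, Functor.map_comp_apply, e₁, e₂, c_map, c_map, h x]

/-- Every locally constant function is the value of a section. -/
theorem exists_val_eq (f : LocallyConstant V.left I) : ∃ s : (K I X).obj.obj (op V), ∀ x, val s x = f x := by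
  haveI : AlgebraicGeometry.Etale V.hom := V.prop
  let O : I → V.left.Opens := fun m => ⟨f ⁻¹' {m}, f.isLocallyConstant _⟩
  let W : I → X.Etale := fun m => Scheme.Etale.mk ((O m).ι ≫ V.hom)
  let ι : ∀ m, W m ⟶ V := fun m => MorphismProperty.Over.homMk (O m).ι rfl
  let S : Sieve V := Sieve.ofArrows W ι
  have hS : S ∈ X.smallEtaleTopology V := (mem_topology_iff S).2 fun x =>
    ⟨_, ι (f x), (⟨x, rfl⟩ : O (f x)), Sieve.ofArrows_mk _ _ (f x), rfl⟩
  have hsh := (isSheaf_iff_isSheaf_of_type _ _).1 (K I X).property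
  have hfor := (Presieve.isSheafFor_iff_generate _).2 (hsh S hS)
  obtain ⟨s, hs, -⟩ := (Presieve.isSheafFor_arrows_iff _ _).1 hfor
    (fun m => c I (W m) m) (fun i k Z gi gk hgk => by
      show (K I X).obj.map gi.op _ = (K I X).obj.map gk.op _
      rw [c_map, c_map]
      refine val_injective _ _ fun z => ?_
      rw [val_c, val_c]
      have e : ((O i).ι (gi.left z) : V.left) = (O k).ι (gk.left z) :=
        (Scheme.Hom.comp_apply _ _ _).symm.trans
          ((congrArg (fun l : Z ⟶ V => l.left.base z) hgk).trans (Scheme.Hom.comp_apply _ _ _))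
      have h1 : f ((O i).ι (gi.left z)) = i := (gi.left z).2
      have h2 : f ((O k).ι (gk.left z)) = k := (gk.left z).2
      exact h1.symm.trans ((congrArg f e).trans h2))
  exact ⟨s, fun x => val_eq ⟨_, ι (f x), (⟨x, rfl⟩ : O (f x)), rfl, hs (f x)⟩⟩

section Pull

variable {T S : Scheme.{u}} (m : T ⟶ S)

/-- Constant sections are natural on the pushed forward constant sheaf. -/
def constHom : (Functor.const S.Etaleᵒᵖ).obj (ULift.{u + 1} I : Type (u + 1)) ⟶ ((EtDesc.pushSh m).obj (K I T)).obj where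
  app U := TypeCat.ofHom fun a => c I ((EtCoh.bc m).obj U.unop) a.down
  naturality U U' b := ConcreteCategory.hom_ext _ _ fun a => (c_map I ((EtCoh.bc m).map b.unop) a.down).symm

/-- The adjoint of the comparison. -/
def phiK : K I S ⟶ (EtDesc.pushSh m).obj (K I T) :=
  ⟨sheafifyLift S.smallEtaleTopology (constHom (I := I) m) ((EtDesc.pushSh m).obj (K I T)).property⟩

theorem phiK_c (U : S.Etale) (a : I) :
    (phiK (I := I) m).hom.app (op U) (c I U a) = c I ((EtCoh.bc m).obj U) a :=
  congrArg (fun z : (Functor.const S.Etaleᵒᵖ).obj (ULift.{u + 1} I : Type (u + 1)) ⟶ ((EtDesc.pushSh m).obj (K I T)).obj =>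
    z.app (op U) (ULift.up a))
    (toSheafify_sheafifyLift S.smallEtaleTopology (constHom (I := I) m) ((EtDesc.pushSh m).obj (K I T)).property)

/-- The inverse image of a constant sheaf is constant. -/
def kappa : (EtDesc.pullSh m).obj (K I S) ⟶ K I T := ((EtDesc.adjSh m).homEquiv _ _).symm (phiK m)

theorem kappa_unit (U : S.Etale) (s : (K I S).obj.obj (op U)) :
    (kappa m).hom.app (op ((EtCoh.bc m).obj U)) (((EtDesc.adjSh m).unit.app (K I S)).hom.app (op U) s) =
      (phiK m).hom.app (op U) s := by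
  have h : (EtDesc.adjSh m).homEquiv _ _ (kappa (I := I) m) = phiK m := Equiv.apply_symm_apply _ _
  rw [Adjunction.homEquiv_unit] at h
  exact congrArg (fun z : K I S ⟶ (EtDesc.pushSh m).obj (K I T) => z.hom.app (op U) s) h

theorem kappa_map_c {Q : T.Etale} {U : S.Etale} (r : Q ⟶ (EtCoh.bc m).obj U) (a : I) :
    (kappa m).hom.app (op Q) (((EtDesc.pullSh m).obj (K I S)).obj.map r.op
      (((EtDesc.adjSh m).unit.app (K I S)).hom.app (op U) (c I U a))) = c I Q a := by
  refine (NatTrans.naturality_apply (kappa m).hom r.op _).trans ?_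
  rw [kappa_unit, phiK_c]
  exact c_map I r a

theorem exists_local_const {Q : T.Etale} (t : ((EtDesc.pullSh m).obj (K I S)).obj.obj (op Q)) (q : Q.left) :
    ∃ (Q' : T.Etale) (d : Q' ⟶ Q) (q' : Q'.left) (U : S.Etale) (r : Q' ⟶ (EtCoh.bc m).obj U) (a : I),
      d.left q' = q ∧ ((EtDesc.pullSh m).obj (K I S)).obj.map d.op t = ((EtDesc.pullSh m).obj (K I S)).obj.map r.op
        (((EtDesc.adjSh m).unit.app (K I S)).hom.app (op U) (c I U a)) := by
  obtain ⟨W, -, Q₁, d₁, r₁, q₁, s, hd₁, -, hs⟩ :=
    EtaLocal.exists_local m (K I S) ((EtCore.bcTopIsTerminal m).from Q) t q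
  obtain ⟨a, W', g, w, hw, ha⟩ := exists_hasVal s (pullback.fst W.hom m (r₁.left q₁))
  obtain ⟨p, -, hp⟩ := Scheme.exists_preimage_of_isPullback (EtCoh.isPullback_bc_map m g).flip w (r₁.left q₁) hw
  obtain ⟨Q', i, r, q', hi, -, hir⟩ := exists_common r₁ ((EtCoh.bc m).map g) q₁ p hp.symm
  refine ⟨Q', i ≫ d₁, q', W', r, a, (Scheme.Hom.comp_apply _ _ _).trans ((congrArg d₁.left hi).trans hd₁), ?_⟩
  have e : ((EtDesc.pullSh m).obj (K I S)).obj.map ((EtCoh.bc m).map g).op
      (((EtDesc.adjSh m).unit.app (K I S)).hom.app (op W) s) =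
        ((EtDesc.adjSh m).unit.app (K I S)).hom.app (op W') (c I W' a) := by
    rw [← ha]
    exact (NatTrans.naturality_apply ((EtDesc.adjSh m).unit.app (K I S)).hom g.op s).symm
  rw [← e, op_comp, Functor.map_comp_apply, hs]
  exact L27.BigSets.map_sq _ _ _ _ _ hir _

theorem isIso_kappa : IsIso (kappa (I := I) m) := by
  have h1 : Sheaf.IsLocallyInjective (kappa (I := I) m) := by
    refine ⟨fun {Q} x y hxy => ?_⟩
    refine (mem_topology_iff _).2 fun q => ?_
    obtain ⟨Q₁, d₁, q₁, U₁, r₁, a₁, hd₁, hx⟩ := exists_local_const m x q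
    obtain ⟨Q₂, d₂, q₂, U₂, r₂, a₂, hd₂, hy⟩ := exists_local_const m y q
    obtain ⟨R, i₁, i₂, r, hr, -, hii⟩ := exists_common d₁ d₂ q₁ q₂ (hd₁.trans hd₂.symm)
    have k₁ : (kappa m).hom.app (op R) (((EtDesc.pullSh m).obj (K I S)).obj.map (i₁ ≫ d₁).op x) = c I R a₁ := by
      rw [op_comp, Functor.map_comp_apply, hx, ← Functor.map_comp_apply, ← op_comp]
      exact kappa_map_c m _ a₁
    have k₂ : (kappa m).hom.app (op R) (((EtDesc.pullSh m).obj (K I S)).obj.map (i₁ ≫ d₁).op y) = c I R a₂ := by
      rw [hii, op_comp, Functor.map_comp_apply, hy, ← Functor.map_comp_apply, ← op_comp]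
      exact kappa_map_c m _ a₂
    have ha : a₁ = a₂ := c_inj I r (k₁.symm.trans ((NatTrans.naturality_apply (kappa m).hom (i₁ ≫ d₁).op x).trans
      ((congrArg _ hxy).trans ((NatTrans.naturality_apply (kappa m).hom (i₁ ≫ d₁).op y).symm.trans k₂))))
    subst ha
    -- both agree with a constant section of a common stage
    refine ⟨R, i₁ ≫ d₁, r, ?_, (Scheme.Hom.comp_apply _ _ _).trans ((congrArg d₁.left hr).trans hd₁)⟩
    let top : ∀ U : S.Etale, U ⟶ EtCoh.top S := fun U => (EtCore.topIsTerminal S).from U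
    have hc : ∀ {Q' : T.Etale} {U : S.Etale} (l : Q' ⟶ (EtCoh.bc m).obj U),
        ((EtDesc.pullSh m).obj (K I S)).obj.map l.op (((EtDesc.adjSh m).unit.app (K I S)).hom.app (op U) (c I U a₁)) =
        ((EtDesc.pullSh m).obj (K I S)).obj.map ((EtCore.bcTopIsTerminal m).from Q').op
          (((EtDesc.adjSh m).unit.app (K I S)).hom.app (op (EtCoh.top S)) (c I (EtCoh.top S) a₁)) := fun {Q' U} l => by
      rw [← c_map I (top U) a₁]
      refine (congrArg _ (NatTrans.naturality_apply ((EtDesc.adjSh m).unit.app (K I S)).hom (top U).op _)).trans ?_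
      refine (Functor.map_comp_apply _ _ _ _).symm.trans ?_
      rw [(EtCore.bcTopIsTerminal m).hom_ext ((EtCore.bcTopIsTerminal m).from Q') (l ≫ (EtCoh.bc m).map (top U))]
      rfl
    show ((EtDesc.pullSh m).obj (K I S)).obj.map (i₁ ≫ d₁).op x = ((EtDesc.pullSh m).obj (K I S)).obj.map (i₁ ≫ d₁).op y
    conv_rhs => rw [hii]
    rw [op_comp, op_comp, Functor.map_comp_apply, Functor.map_comp_apply, hx, hy, ← Functor.map_comp_apply,
      ← Functor.map_comp_apply, ← op_comp, ← op_comp]
    exact (hc _).trans (hc _).symm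
  have h2 : Sheaf.IsLocallySurjective (kappa (I := I) m) := by
    refine ⟨fun {Q} x => ?_⟩
    refine (mem_topology_iff _).2 fun q => ?_
    obtain ⟨a, Q', d, q', hd, ha⟩ := exists_hasVal x q
    exact ⟨Q', d, q', ⟨_, (kappa_map_c m ((EtCore.bcTopIsTerminal m).from Q' : Q' ⟶ (EtCoh.bc m).obj (EtCoh.top S)) a).trans ha.symm⟩, hd⟩
  exact (Sheaf.isLocallyBijective_iff_isIso (kappa (I := I) m)).1 ⟨h1, h2⟩

theorem val_phiK (U : S.Etale) (s : (K I S).obj.obj (op U)) (q : ((EtCoh.bc m).obj U).left) :
    val ((phiK m).hom.app (op U) s) q = val s (pullback.fst U.hom m q) := by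
  obtain ⟨W, g, w, hw, hg⟩ := hasVal_val s (pullback.fst U.hom m q)
  obtain ⟨p, -, hp⟩ := Scheme.exists_preimage_of_isPullback (EtCoh.isPullback_bc_map m g).flip w q hw
  refine val_eq ⟨_, (EtCoh.bc m).map g, p, hp, ?_⟩
  refine (NatTrans.naturality_apply (phiK m).hom g.op s).symm.trans ?_
  exact (congrArg _ hg).trans (phiK_c m W _)

/-- The function attached to a global section. -/
def fn (s : EtDesc.sect (K I S) (EtCoh.top S)) : LocallyConstant S I :=
  ⟨fun x => val (V := EtCoh.top S) s x, isLocallyConstant_val (V := EtCoh.top S) s⟩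

theorem bijective_fn : Function.Bijective (fn : EtDesc.sect (K I S) (EtCoh.top S) → LocallyConstant S I) :=
  ⟨fun s t h => val_injective s t fun x => congrArg (fun l : LocallyConstant S I => l x) h,
    fun f => (exists_val_eq (V := EtCoh.top S) f).imp fun s hs => LocallyConstant.ext hs⟩

/-- Pullback of locally constant functions. -/
def pullFn (f : LocallyConstant S I) : LocallyConstant T I := f.comap ⟨m.base, m.continuous⟩

theorem bcTop_inv_fst : (EtCore.bcTopIso m).inv.left ≫ pullback.fst (EtCoh.top S).hom m = m := by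
  have h : (EtCore.bcTopIso m).inv.left ≫ pullback.snd (EtCoh.top S).hom m = 𝟙 T :=
    MorphismProperty.Over.w (EtCore.bcTopIso m).inv
  refine (Category.comp_id _).symm.trans ((Category.assoc _ _ _).trans ?_)
  refine (congrArg ((EtCore.bcTopIso m).inv.left ≫ ·) pullback.condition).trans ?_
  exact (Category.assoc _ _ _).symm.trans ((congrArg (· ≫ m) h).trans (Category.id_comp m))

theorem fn_secPull (s : EtDesc.sect (K I S) (EtCoh.top S)) :
    fn ((kappa m).hom.app (op (EtCoh.top T)) (EtDesc.secPull m (K I S) s)) = pullFn m (fn s) := by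
  refine LocallyConstant.ext fun x => ?_
  show val ((kappa m).hom.app (op (EtCoh.top T)) (EtDesc.secPull m (K I S) s)) x = val (V := EtCoh.top S) s (m x)
  rw [EtDesc.secPull, NatTrans.naturality_apply (kappa m).hom]
  refine (val_map (EtCore.bcTopIso m).inv _ x).trans ?_
  rw [kappa_unit, val_phiK]
  refine congrArg (val (V := EtCoh.top S) s) ?_
  refine (Scheme.Hom.comp_apply _ _ _).symm.trans ?_
  refine congrArg (fun l : T ⟶ S => l x) ?_
  exact bcTop_inv_fst m

theorem injective_secPull_iff :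
    Function.Injective (EtDesc.secPull m (K I S)) ↔ Function.Injective (pullFn (I := I) m) := by
  haveI := isIso_kappa (I := I) m
  have hk := ConcreteCategory.bijective_of_isIso (((sheafToPresheaf _ _).map (kappa (I := I) m)).app (op (EtCoh.top T)))
  have h := bijective_fn (I := I) (S := T) |>.comp hk
  refine (h.1.of_comp_iff (EtDesc.secPull m (K I S))).symm.trans ?_
  refine (iff_of_eq (congrArg Function.Injective (funext fun s => fn_secPull m s))).trans ?_
  exact Function.Injective.of_comp_iff' _ bijective_fn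

theorem bijective_secPull_iff :
    Function.Bijective (EtDesc.secPull m (K I S)) ↔ Function.Bijective (pullFn (I := I) m) := by
  haveI := isIso_kappa (I := I) m
  have hk := ConcreteCategory.bijective_of_isIso (((sheafToPresheaf _ _).map (kappa (I := I) m)).app (op (EtCoh.top T)))
  have h := bijective_fn (I := I) (S := T) |>.comp hk
  refine (Function.Bijective.of_comp_iff' h (EtDesc.secPull m (K I S))).symm.trans ?_
  refine (iff_of_eq (congrArg Function.Bijective (funext fun s => fn_secPull m s))).trans ?_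
  exact Function.Bijective.of_comp_iff _ bijective_fn

end Pull

end Groth.L23.ZeroAcyc
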