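import Groth.Agent.L06.Spectral
import Groth.Agent.L22.GeomConn.Finite
import Mathlib.AlgebraicGeometry.Morphisms.QuasiFinite
import Mathlib.AlgebraicGeometry.Morphisms.QuasiSeparated
import Mathlib.AlgebraicGeometry.IdealSheaf.Subscheme
import Mathlib.AlgebraicGeometry.Morphisms.Preimmersion
import Mathlib.AlgebraicGeometry.Geometrically.Connected
import Mathlib.RingTheory.DedekindDomain.IntegralClosure
import Mathlib.AlgebraicGeometry.PullbackCarrier

/-! # Morphisms whose quasi-finite base changes preserve clopen subsets -/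

universe u

open CategoryTheory CategoryTheory.Limits AlgebraicGeometry TopologicalSpace Topology

set_option autoImplicit false
set_option maxSynthPendingDepth 3
set_option backward.isDefEq.respectTransparency.types false
set_option linter.style.haveILetI false
set_option linter.unusedSectionVars false
set_option linter.unusedVariables false

noncomputable section

namespace Groth.L23.ZeroAcyc

open Groth.L06

variable {T S : Scheme.{u}}

/-- After every quasi-finite base change the morphism is surjective and clopen subsets descend. -/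
def Crit (f : T ⟶ S) : Prop :=
  ∀ ⦃S' T' : Scheme.{u}⦄ (i : S' ⟶ S) [LocallyQuasiFinite i] [LocallyOfFiniteType i] (b : T' ⟶ T) (f' : T' ⟶ S'),
    IsPullback b f' f i → Function.Surjective f' ∧ ∀ C : Set T', IsClopen C → ∃ D : Set S', IsClopen D ∧ f' ⁻¹' D = C

theorem Crit.baseChange {f : T ⟶ S} (hf : Crit f) {S₁ T₁ : Scheme.{u}} (i : S₁ ⟶ S) [LocallyQuasiFinite i]
    [LocallyOfFiniteType i] {b : T₁ ⟶ T} {f₁ : T₁ ⟶ S₁} (h : IsPullback b f₁ f i) : Crit f₁ :=
  fun S' T' i' _ _ b' f' h' => hf (i' ≫ i) (b' ≫ b) f' (h'.paste_horiz h)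

variable {f : T ⟶ S}

theorem Crit.surjective (hf : Crit f) : Function.Surjective f :=
  (hf (𝟙 S) (𝟙 T) f (IsPullback.of_horiz_isIso ⟨by simp⟩)).1

/-- The preimage of an irreducible locally closed subset is preconnected. -/
theorem isPreconnected_preimage_locClosed (hf : Crit f) (D : S.Opens) (Z : Closeds S)
    (hirr : _root_.IsPreconnected ((D : Set S) ∩ Z)) : _root_.IsPreconnected (f ⁻¹' ((D : Set S) ∩ Z)) := by
  let Z' : Closeds (D : Scheme.{u}) := ⟨D.ι ⁻¹' Z, Z.2.preimage D.ι.continuous⟩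
  let J := Scheme.IdealSheafData.vanishingIdeal Z'
  let i : J.subscheme ⟶ S := J.subschemeι ≫ D.ι
  haveI : IsImmersion i := inferInstanceAs (IsImmersion (J.subschemeι ≫ D.ι))
  haveI : LocallyOfFiniteType i := inferInstance
  have hr : Set.range i = (D : Set S) ∩ Z := by
    rw [show ⇑i = D.ι ∘ J.subschemeι from funext fun x => Scheme.Hom.comp_apply _ _ _, Set.range_comp,
      Scheme.IdealSheafData.range_subschemeι, Scheme.IdealSheafData.coe_support_vanishingIdeal]
    show D.ι '' (D.ι ⁻¹' (Z : Set S)) = _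
    rw [Set.image_preimage_eq_inter_range, Scheme.Opens.range_ι, Set.inter_comm]
  obtain ⟨hsurj, hclopen⟩ := hf i (pullback.fst f i) (pullback.snd f i) (IsPullback.of_hasPullback f i)
  haveI : IsImmersion (pullback.fst f i) := MorphismProperty.pullback_fst _ _ inferInstance
  rw [← hr, ← Scheme.Pullback.range_fst, ← Set.image_univ]
  refine _root_.IsPreconnected.image ?_ _ (pullback.fst f i).continuous.continuousOn
  haveI : PreconnectedSpace J.subscheme := by
    refine ⟨?_⟩
    refine i.isEmbedding.isInducing.isPreconnected_image.1 ?_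
    rwa [Set.image_univ, hr]
  haveI : PreconnectedSpace ↥(pullback f i) := preconnectedSpace_iff_clopen.2 fun C hC => by
    obtain ⟨D', hD', rfl⟩ := hclopen C hC
    rcases isClopen_iff.1 hD' with rfl | rfl
    · exact Or.inl Set.preimage_empty
    · exact Or.inr Set.preimage_univ
  exact isPreconnected_univ

/-- The set of points between two points. -/
def interval (r w : S) : Set S := {z | r ⤳ z ∧ z ⤳ w}

theorem isPreconnected_of_iInter {P : Scheme.{u}} [SpectralSpace P] {ι : Type*} [Nonempty ι] (Z : ι → Set P)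
    (hd : Directed (· ⊇ ·) Z) (hcl : ∀ i, IsClosed[constructibleTopology P] (Z i))
    (h : ∀ i, _root_.IsPreconnected (Z i)) : _root_.IsPreconnected (⋂ i, Z i) := by
  let E := ⋂ i, Z i
  have hE : IsClosed[constructibleTopology P] E := @isClosed_iInter _ _ (constructibleTopology P) _ hcl
  intro a b ha hb hab hEa hEb
  by_contra hne
  rw [Set.not_nonempty_iff_eq_empty] at hne
  -- replace the two opens by compact opens
  have key : ∀ a b : Set P, IsOpen a → IsOpen b → E ⊆ a ∪ b → E ∩ (a ∩ b) = ∅ →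
      ∃ a' : Set P, IsOpen a' ∧ IsCompact a' ∧ a' ⊆ a ∧ E ∩ a ⊆ a' := fun a b ha hb hab hne => by
    have hc : IsCompact (E ∩ a) := by
      rw [show E ∩ a = E ∩ bᶜ from Set.ext fun x => ⟨fun hx => ⟨hx.1, fun hxb =>
        (Set.eq_empty_iff_forall_notMem.1 hne) x ⟨hx.1, hx.2, hxb⟩⟩, fun hx => ⟨hx.1, (hab hx.1).resolve_right hx.2⟩⟩]
      exact (Spectral.isCompact_of_isClosed_cons hE).inter_right hb.isClosed_compl
    obtain ⟨S₀, hS, hSa⟩ := PrespectralSpace.isTopologicalBasis.open_eq_sUnion ha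
    rw [Set.sUnion_eq_iUnion] at hSa
    obtain ⟨t, ht⟩ := hc.elim_finite_subcover (fun s : S₀ => (s : Set P)) (fun s => (hS s.2).1)
      (Set.inter_subset_right.trans hSa.le)
    exact ⟨⋃ s ∈ t, (s : Set P), isOpen_biUnion fun s _ => (hS s.2).1, t.isCompact_biUnion fun s _ => (hS s.2).2,
      Set.iUnion₂_subset fun s _ => hSa.ge.trans' (Set.subset_iUnion (fun s : S₀ => (s : Set P)) s), ht⟩
  obtain ⟨a', ha', hca, haa, hEa'⟩ := key a b ha hb hab hne
  obtain ⟨b', hb', hcb, hbb, hEb'⟩ := key b a hb ha (by rwa [Set.union_comm]) (by rwa [Set.inter_comm b a])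
  obtain ⟨i, hi⟩ := Spectral.exists_subset_of_iInter_subset Z hd hcl (V := (a' ∪ b') ∩ (a' ∩ b')ᶜ)
    (@IsClopen.inter _ (constructibleTopology P) _ _
      (@IsClopen.union _ (constructibleTopology P) _ _ (Spectral.isClopen_cons ha' hca) (Spectral.isClopen_cons hb' hcb))
      (@IsClopen.compl _ (constructibleTopology P) _
        (@IsClopen.inter _ (constructibleTopology P) _ _ (Spectral.isClopen_cons ha' hca) (Spectral.isClopen_cons hb' hcb)))).2
    (fun x hx => ⟨(hab hx).imp (fun h => hEa' ⟨hx, h⟩) (fun h => hEb' ⟨hx, h⟩),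
      fun h => (Set.eq_empty_iff_forall_notMem.1 hne) x ⟨hx, haa h.1, hbb h.2⟩⟩)
  obtain ⟨x, hxE, hxa⟩ := hEa
  obtain ⟨y, hyE, hyb⟩ := hEb
  obtain ⟨z, hz, hz'⟩ := h i a' b' ha' hb' (fun z hz => (hi hz).1)
    ⟨x, Set.mem_iInter.1 hxE i, hEa' ⟨hxE, hxa⟩⟩ ⟨y, Set.mem_iInter.1 hyE i, hEb' ⟨hyE, hyb⟩⟩
  exact (hi hz).2 hz'

/-- The preimage of an interval is preconnected. -/
theorem isPreconnected_preimage_interval [QuasiCompact f] [QuasiSeparated f] (hf : Crit f) (r w : S) :
    _root_.IsPreconnected (f ⁻¹' interval r w) := by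
  by_cases hrw : r ⤳ w
  swap
  · convert isPreconnected_empty
    rw [Set.eq_empty_iff_forall_notMem]
    exact fun x hx => hrw (hx.1.trans hx.2)
  obtain ⟨U, hU, hwU, -⟩ := exists_isAffineOpen_mem_and_subset (X := S) (x := w) (U := ⊤) trivial
  let P : T.Opens := f ⁻¹ᵁ U
  haveI : CompactSpace (P : Scheme.{u}) := isCompact_iff_compactSpace.1 (f.isCompact_preimage hU.isCompact)
  haveI : QuasiSeparatedSpace (P : Scheme.{u}) := by
    haveI : IsAffine (U : Scheme.{u}) := hU
    exact quasiSeparatedSpace_of_quasiSeparated (f ∣_ U)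
  haveI : SpectralSpace (P : Scheme.{u}) := {}
  let ι := {D : S.Opens // IsCompact (D : Set S) ∧ D ≤ U ∧ w ∈ D}
  haveI : Nonempty ι := ⟨⟨U, hU.isCompact, le_rfl, hwU⟩⟩
  let Zs : ι → Set (P : Scheme.{u}) := fun D => P.ι ⁻¹' (f ⁻¹' ((D.1 : Set S) ∩ closure {r}))
  have hint : ∀ z, z ∈ interval r w ↔ ∀ D : ι, z ∈ (D.1 : Set S) ∩ closure {r} := fun z => by
    refine ⟨fun hz D => ⟨hz.2.mem_open D.1.2 D.2.2.2, hz.1.mem_closure⟩, fun h => ?_⟩
    refine ⟨specializes_iff_mem_closure.2 (h (Classical.arbitrary ι)).2, specializes_iff_forall_open.2 fun V hV hwV => ?_⟩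
    obtain ⟨D, hD, hwD, hDV⟩ := exists_isAffineOpen_mem_and_subset (X := S) (x := w) (U := ⟨V, hV⟩ ⊓ U) ⟨hwV, hwU⟩
    exact (hDV (h ⟨D, hD.isCompact, fun x hx => (hDV hx).2, hwD⟩).1).1
  have hpre : f ⁻¹' interval r w = P.ι '' ⋂ D, Zs D := by
    ext x
    constructor
    · intro hx
      have hxP : x ∈ P := ((hint (f x)).1 hx ⟨U, hU.isCompact, le_rfl, hwU⟩).1
      exact ⟨⟨x, hxP⟩, Set.mem_iInter.2 fun D => (hint (f x)).1 hx D, rfl⟩
    · rintro ⟨x, hx, rfl⟩
      exact (hint _).2 fun D => Set.mem_iInter.1 hx D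
  rw [hpre]
  refine _root_.IsPreconnected.image (isPreconnected_of_iInter Zs ?_ (fun D => ?_) fun D => ?_) _ P.ι.continuous.continuousOn
  · intro D D'
    refine ⟨⟨D.1 ⊓ D'.1, ?_, fun x hx => D.2.2.1 hx.1, ⟨D.2.2.2, D'.2.2.2⟩⟩, fun x hx => ⟨hx.1.1, hx.2⟩,
      fun x hx => ⟨hx.1.2, hx.2⟩⟩
    exact hU.isQuasiSeparated _ _ (fun x hx => D.2.2.1 hx) D.1.2 D.2.1 (fun x hx => D'.2.2.1 hx) D'.1.2 D'.2.1
  · refine @IsClosed.inter _ _ _ (constructibleTopology (P : Scheme.{u})) (Spectral.isClopen_cons ?_ ?_).1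
      (Spectral.isClosed_cons_of_isClosed (isClosed_closure.preimage (P.ι ≫ f).continuous) :)
    · exact D.1.2.preimage (P.ι ≫ f).continuous
    · refine P.ι.isEmbedding.isInducing.isCompact_iff.2 ?_
      show IsCompact (P.ι '' ((fun x => f (P.ι x)) ⁻¹' (D.1 : Set S)))
      refine (congrArg IsCompact ?_).mpr (f.isCompact_preimage D.2.1)
      refine Set.ext fun x => ⟨?_, fun hx => ⟨⟨x, D.2.2.1 hx⟩, hx, rfl⟩⟩
      rintro ⟨z, hz, rfl⟩
      exact hz
  · have := isPreconnected_preimage_locClosed hf D.1 ⟨closure {r}, isClosed_closure⟩ (isPreirreducible_inter D.1.2 r).isPreconnected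
    refine P.ι.isEmbedding.isInducing.isPreconnected_image.1 ?_
    rw [Set.image_preimage_eq_inter_range, Scheme.Opens.range_ι]
    rw [Set.inter_eq_left.2 (show f ⁻¹' ((D.1 : Set S) ∩ closure {r}) ⊆ (P : Set T) from fun x hx => D.2.2.1 hx.1)]
    exact this
where
  isPreirreducible_inter {D : Set S} (hD : IsOpen D) (r : S) : IsPreirreducible (D ∩ closure {r}) := by
    intro u v hu hv ⟨x, hx, hxu⟩ ⟨y, hy, hyv⟩
    exact ⟨r, ⟨(specializes_iff_mem_closure.2 hx.2).mem_open hD hx.1, subset_closure rfl⟩,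
      (specializes_iff_mem_closure.2 hx.2).mem_open hu hxu, (specializes_iff_mem_closure.2 hy.2).mem_open hv hyv⟩

/-- The fibres over points are connected. -/
theorem isConnected_fibre [QuasiCompact f] [QuasiSeparated f] (hf : Crit f) (s : S) :
    _root_.IsConnected (f ⁻¹' {s}) := by
  have h : interval s s = {s} := Set.ext fun z => ⟨fun hz => (hz.2.antisymm hz.1).eq, by rintro rfl; exact ⟨specializes_rfl, specializes_rfl⟩⟩
  refine ⟨?_, h ▸ isPreconnected_preimage_interval hf s s⟩
  obtain ⟨t, ht⟩ := hf.surjective s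
  exact ⟨t, ht⟩

/-- The base change along a dominant point of an integral finite scheme is connected. -/
theorem connectedSpace_preimmersion [QuasiCompact f] [QuasiSeparated f] (hf : Crit f) {Y : Scheme.{u}}
    (i : Y ⟶ S) [LocallyQuasiFinite i] [LocallyOfFiniteType i] {L : Type u} [Field L] (e : Spec (CommRingCat.of L) ⟶ Y) [IsPreimmersion e]
    {P : Scheme.{u}} (b : P ⟶ T) (f' : P ⟶ Spec (CommRingCat.of L)) (h : IsPullback b f' f (e ≫ i)) :
    ConnectedSpace P := by
  let f₁ := pullback.snd f i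
  have hf₁ : Crit f₁ := hf.baseChange i (IsPullback.of_hasPullback f i)
  have h₁ : IsPullback (pullback.lift b (f' ≫ e) (by rw [h.w, Category.assoc])) f' f₁ e := by
    refine IsPullback.of_right ?_ (pullback.lift_snd _ _ _) (IsPullback.of_hasPullback f i)
    rwa [pullback.lift_fst]
  have hc := isConnected_fibre hf₁ (e default)
  let l : P ⟶ pullback f i := pullback.lift b (f' ≫ e) (by rw [h.w, Category.assoc])
  haveI : IsPreimmersion l := MorphismProperty.of_isPullback (P := @IsPreimmersion) h₁.flip inferInstance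
  have hr : Set.range l = f₁ ⁻¹' {e default} := by
    ext x
    refine ⟨?_, fun hx => ?_⟩
    · rintro ⟨z, rfl⟩
      show f₁ (l z) = e default
      rw [← Scheme.Hom.comp_apply, h₁.w, Scheme.Hom.comp_apply]
      exact congrArg e (Subsingleton.elim (α := Spec (CommRingCat.of L)) _ _)
    · obtain ⟨z, hz, -⟩ := Scheme.exists_preimage_of_isPullback h₁ x default hx
      exact ⟨z, hz⟩
  rw [← hr, ← Set.image_univ] at hc
  exact connectedSpace_iff_univ.2 ⟨Set.image_nonempty.1 hc.1, l.isEmbedding.isInducing.isPreconnected_image.1 hc.2⟩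

/-- A finite extension of the fraction field of a domain is the fraction field of a finite subalgebra. -/
theorem exists_finite_subalgebra (R k L : Type u) [CommRing R] [IsDomain R] [Field k] [Algebra R k]
    [IsFractionRing R k] [Field L] [Algebra k L] [FiniteDimensional k L] [Algebra R L] [IsScalarTower R k L] :
    ∃ B : Subalgebra R L, Module.Finite R B ∧ IsFractionRing B L := by
  classical
  obtain ⟨ι, e, he⟩ := FiniteDimensional.exists_is_basis_integral (A := R) (K := k) (L := L)
  let B := Algebra.adjoin R (Set.range e)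
  have hfin : Module.Finite R B := Module.Finite.iff_fg.2 <|
    fg_adjoin_of_finite (Set.finite_range e) fun x hx => by obtain ⟨j, rfl⟩ := hx; exact he j
  refine ⟨B, hfin, ?_⟩
  haveI : FaithfulSMul B L := (faithfulSMul_iff_algebraMap_injective B L).2 Subtype.val_injective
  refine IsFractionRing.of_field B L fun z => ?_
  obtain ⟨b, hb⟩ := IsLocalization.exist_integer_multiples_of_finite (nonZeroDivisors R) fun j => e.repr z j
  choose r hr using hb
  have hb0 : algebraMap R L b ≠ 0 := by
    rw [IsScalarTower.algebraMap_apply R k L]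
    simp only [ne_eq, map_eq_zero]
    exact fun h => nonZeroDivisors.coe_ne_zero b ((injective_iff_map_eq_zero _).1 (IsFractionRing.injective R k) _ h)
  refine ⟨⟨∑ j, r j • e j, sum_mem fun j _ => Subalgebra.smul_mem _ (Algebra.subset_adjoin (show e j ∈ Set.range e from ⟨j, rfl⟩)) _⟩,
    algebraMap R B b, ?_⟩
  show z = (∑ j, r j • e j) / algebraMap R L b
  rw [eq_div_iff hb0]
  conv_lhs => rw [← e.sum_repr z, Finset.sum_mul]
  refine Finset.sum_congr rfl fun j _ => ?_
  rw [mul_comm, ← Algebra.smul_def, ← smul_assoc, ← hr j, algebraMap_smul]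

/-- The geometric fibres are connected. -/
theorem connectedSpace_geomFibre [QuasiCompact f] [QuasiSeparated f] (hf : Crit f) (Ω : Type u) [Field Ω]
    [IsAlgClosed Ω] (η : Spec (CommRingCat.of Ω) ⟶ S) : ConnectedSpace ↥(pullback f η) := by
  obtain ⟨U, hU, hsU, -⟩ := exists_isAffineOpen_mem_and_subset (X := S) (x := η default) (U := ⊤) trivial
  let A := Γ(S, U)
  let j : Spec A ⟶ S := hU.fromSpec
  have hr : Set.range η ⊆ Set.range j := by
    rintro _ ⟨x, rfl⟩
    rw [hU.range_fromSpec, Subsingleton.elim (α := Spec (CommRingCat.of Ω)) x default]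
    exact hsU
  obtain ⟨θ, hθ⟩ := Spec.map_surjective (IsOpenImmersion.lift j η hr)
  let P : Ideal A := RingHom.ker θ.hom
  haveI : P.IsPrime := RingHom.ker_isPrime _
  let R := A ⧸ P
  let k := FractionRing R
  let θR : R →+* Ω := Ideal.Quotient.lift P θ.hom fun a h => h
  have hθR : Function.Injective θR := (Ideal.injective_lift_iff _).2 rfl
  letI : Algebra k Ω := (IsFractionRing.lift (K := k) hθR).toAlgebra
  let q : CommRingCat.of A ⟶ CommRingCat.of k :=
    CommRingCat.ofHom ((algebraMap R k).comp (Ideal.Quotient.mk P))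
  let ψ : Spec (CommRingCat.of k) ⟶ S := Spec.map q ≫ j
  have hη : Spec.map (CommRingCat.ofHom (algebraMap k Ω)) ≫ ψ = η := by
    rw [← Category.assoc, ← Spec.map_comp, show q ≫ CommRingCat.ofHom (algebraMap k Ω) = θ from
      CommRingCat.hom_ext (RingHom.ext fun a => IsLocalization.lift_eq _ _)]
    exact (congrArg (· ≫ j) hθ).trans (IsOpenImmersion.lift_fac _ _ _)
  let fk : pullback f ψ ⟶ Spec (CommRingCat.of k) := pullback.snd f ψ
  have hpaste : ∀ (L : Type u) [Field L] [Algebra k L], IsPullback (FBase.bcπ fk L ≫ pullback.fst f ψ)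
      (FBase.bcStr fk L) f (Spec.map (CommRingCat.ofHom (algebraMap k L)) ≫ ψ) := fun L _ _ =>
    (IsPullback.of_hasPullback fk (Spec.map (CommRingCat.ofHom (algebraMap k L)))).paste_horiz
      (IsPullback.of_hasPullback f ψ)
  let K := AlgebraicClosure k
  haveI hK : ConnectedSpace ↥(FBase.bc fk K) := by
    refine (L22.GeomConn.sys fk K).connectedSpace fun L => ?_
    haveI := L.2
    obtain ⟨B, hB, hBf⟩ := exists_finite_subalgebra R k L.1
    let φ : CommRingCat.of A ⟶ CommRingCat.of B := CommRingCat.ofHom ((algebraMap R B).comp (Ideal.Quotient.mk P))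
    haveI : IsFinite (Spec.map φ) := by
      rw [IsFinite.SpecMap_iff]
      exact (RingHom.finite_algebraMap.2 hB).comp (RingHom.Finite.of_surjective _ Ideal.Quotient.mk_surjective)
    let e := Spec.map (CommRingCat.ofHom (algebraMap B L.1))
    haveI : IsPreimmersion e := IsPreimmersion.of_isLocalization (nonZeroDivisors B)
    refine connectedSpace_preimmersion hf (Spec.map φ ≫ j) e (FBase.bcπ fk L.1 ≫ pullback.fst f ψ) (FBase.bcStr fk L.1) ?_
    have heq : e ≫ Spec.map φ ≫ j = Spec.map (CommRingCat.ofHom (algebraMap k L.1)) ≫ ψ := by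
      rw [← Category.assoc, ← Spec.map_comp, ← Category.assoc, ← Spec.map_comp]
      refine congrArg (fun z => Spec.map z ≫ j) (CommRingCat.hom_ext (RingHom.ext fun a => ?_))
      exact IsScalarTower.algebraMap_apply R k L.1 (Ideal.Quotient.mk P a)
    rw [heq]
    exact hpaste L.1
  obtain ⟨l⟩ : Nonempty (K →ₐ[k] Ω) := ⟨IsAlgClosed.lift⟩
  letI : Algebra K Ω := l.toRingHom.toAlgebra
  haveI : IsScalarTower k K Ω := .of_algebraMap_eq fun x => (l.commutes x).symm
  haveI := L22.GeomConn.geometricallyConnected_bcMap fk K Ω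
  haveI : ConnectedSpace ↥(FBase.bc fk Ω) :=
    GeometricallyConnected.connectedSpace (L22.GeomConn.bcMap fk K Ω) (L22.GeomConn.bcMap fk K Ω).isOpenMap
  let e' := ((hη ▸ hpaste Ω : IsPullback _ _ f η)).isoPullback
  exact (Scheme.Hom.homeomorph e'.hom).surjective.connectedSpace e'.hom.continuous

end Groth.L23.ZeroAcyc
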