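import Groth.Agent.L23.ZeroAcyc.Crit
import Groth.Agent.L23.LocalDimEtale
import Groth.Agent.L27.EtSite.ConnFibres
import Groth.Agent.L27.EtSite.EtaLocal
import Mathlib.AlgebraicGeometry.Morphisms.UniversallyOpen

/-! # Surjectivity of pullback of sections along morphisms satisfying the clopen criterion -/

universe u v w

open CategoryTheory CategoryTheory.Limits AlgebraicGeometry Opposite Topology

set_option backward.isDefEq.respectTransparency.types false
set_option linter.style.haveILetI false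
set_option linter.unusedSectionVars false
set_option linter.unusedVariables false

namespace Groth.L23.ZeroAcyc

open Groth.L27.EtSite Groth.L27.EtSite.CF Groth.L06

variable {X S : Scheme.{u}} (f : X ⟶ S) [QuasiCompact f] [QuasiSeparated f] (hf : Crit f)

variable {A : Type w} [Category.{v} A] {FA : A → A → Type*} {CA : A → Type (u + 1)}
  [∀ (P Q : A), FunLike (FA P Q) (CA P) (CA Q)] [ConcreteCategory.{u + 1} A FA]
  [HasColimitsOfSize.{u, u} A] [HasProducts.{u} A] [PreservesFilteredColimitsOfSize.{u, u} (forget A)]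
  [∀ X : Scheme.{u}, X.smallEtaleTopology.HasSheafCompose (forget A)]
  [((EtCoh.bc f).sheafPushforwardContinuous A S.smallEtaleTopology X.smallEtaleTopology).IsRightAdjoint]
  (F : Sheaf S.smallEtaleTopology A)

include hf in
theorem crit_etale (W : S.Etale) : Crit (pullback.fst W.hom f) ∧ QuasiCompact (pullback.fst W.hom f) ∧
    QuasiSeparated (pullback.fst W.hom f) := by
  haveI : AlgebraicGeometry.Etale W.hom := W.prop
  haveI := Groth.L23.lqf_of_etale W.hom
  exact ⟨hf.baseChange W.hom (IsPullback.of_hasPullback W.hom f).flip,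
    MorphismProperty.pullback_fst _ _ ‹QuasiCompact f›, MorphismProperty.pullback_fst _ _ ‹QuasiSeparated f›⟩

include hf in
/-- The image of a saturated agreement locus is a neighbourhood of each of its points. -/
theorem mem_interior_image {V : S.Etale} (t : ToType ((BC.P f F).obj.obj (op ((EtCoh.bc f).obj V))))
    {W : S.Etale} (a : W ⟶ V) (s : ToType (F.obj.obj (op W))) {w0 : W.left}
    (hw : w0 ∈ pullback.fst W.hom f '' locus f F t a s) :
    w0 ∈ interior (pullback.fst W.hom f '' locus f F t a s) := by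
  have hc : ∀ (Ω : Type u) [Field Ω] [IsAlgClosed Ω] (η : Spec (CommRingCat.of Ω) ⟶ S),
      ConnectedSpace ↥(pullback f η) := fun Ω _ _ η => connectedSpace_geomFibre hf Ω η
  obtain ⟨hpC, _, _⟩ := crit_etale f hf W
  let p : ((EtCoh.bc f).obj W).left ⟶ W.left := pullback.fst W.hom f
  let L := locus f F t a s
  let A := p '' L
  have hsat : ∀ q, p q ∈ A → q ∈ L := fun q ⟨q₀, h, e⟩ => locus_saturated f F hc t a s e.symm h
  have hLo : IsOpen L := isOpen_locus f F t a s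
  by_contra hnot
  obtain ⟨U, hU, hwU, -⟩ := exists_isAffineOpen_mem_and_subset (X := W.left) (x := w0) (U := ⊤) trivial
  haveI : IsAffine (U : Scheme.{u}) := hU
  haveI : SpectralSpace (U : Scheme.{u}) := {}
  haveI : QuasiCompact p := (crit_etale f hf W).2.1
  haveI : QuasiSeparated p := (crit_etale f hf W).2.2
  haveI : QuasiCompact (p ∣_ U) := IsZariskiLocalAtTarget.restrict ‹QuasiCompact p› U
  haveI : QuasiSeparated (p ∣_ U) := IsZariskiLocalAtTarget.restrict ‹QuasiSeparated p› U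
  let P := p ⁻¹ᵁ U
  haveI : CompactSpace (P : Scheme.{u}) := isCompact_iff_compactSpace.1 (p.isCompact_preimage hU.isCompact)
  haveI : QuasiSeparatedSpace (P : Scheme.{u}) := quasiSeparatedSpace_of_quasiSeparated (p ∣_ U)
  haveI : SpectralSpace (P : Scheme.{u}) := {}
  have hE : IsClosed[constructibleTopology (U : Scheme.{u})] ((p ∣_ U) '' (P.ι ⁻¹' Lᶜ)) := by
    refine Spectral.isClosed_cons_image ⟨(p ∣_ U).continuous, fun V hV hVc => QuasiCompact.isCompact_preimage (f := p ∣_ U) V hV hVc⟩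
      (Spectral.isClosed_cons_of_isClosed (hLo.isClosed_compl.preimage P.ι.continuous))
  have hE' : ∀ z : (U : Scheme.{u}), z ∈ (p ∣_ U) '' (P.ι ⁻¹' Lᶜ) ↔ U.ι z ∉ A := fun z => by
    constructor
    · rintro ⟨q, hq, rfl⟩ hA
      refine hq (hsat _ ?_)
      rwa [← Scheme.Hom.comp_apply, ← morphismRestrict_ι, Scheme.Hom.comp_apply]
    · intro hz
      obtain ⟨q, hq⟩ := hpC.surjective (U.ι z)
      refine ⟨⟨q, show p q ∈ U from hq ▸ z.2⟩, fun h => hz ⟨q, h, hq⟩, ?_⟩
      apply U.ι.isOpenEmbedding.injective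
      rw [← Scheme.Hom.comp_apply, morphismRestrict_ι, Scheme.Hom.comp_apply]
      exact hq
  have hw' : (⟨w0, hwU⟩ : (U : Scheme.{u})) ∈ closure ((p ∣_ U) '' (P.ι ⁻¹' Lᶜ)) := by
    rw [interior_eq_compl_closure_compl, Set.notMem_compl_iff] at hnot
    rw [show (p ∣_ U) '' (P.ι ⁻¹' Lᶜ) = U.ι ⁻¹' Aᶜ from Set.ext hE',
      ← U.ι.isOpenMap.preimage_closure_eq_closure_preimage U.ι.continuous]
    exact hnot
  obtain ⟨e, heE, hew⟩ := Spectral.exists_specializes_of_mem_closure hE hw'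
  -- a maximal point outside the image below `w0`
  let C : Set (U : Scheme.{u}) := {z | z ∈ (p ∣_ U) '' (P.ι ⁻¹' Lᶜ) ∧ z ⤳ ⟨w0, hwU⟩}
  have hC : IsCompact C := by
    refine Spectral.isCompact_of_isClosed_cons ?_
    have : C = (p ∣_ U) '' (P.ι ⁻¹' Lᶜ) ∩
        ⋂ V : {V : Set (U : Scheme.{u}) // IsOpen V ∧ IsCompact V ∧ (⟨w0, hwU⟩ : (U : Scheme.{u})) ∈ V}, V.1 := by
      ext z
      exact ⟨fun h => ⟨h.1, Set.mem_iInter.2 fun V => h.2.mem_open V.2.1 V.2.2.2⟩, fun h =>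
        ⟨h.1, Spectral.specializes_of_mem_qcOpenNhds fun V h1 h2 h3 => Set.mem_iInter.1 h.2 ⟨V, h1, h2, h3⟩⟩⟩
    rw [this]
    exact @IsClosed.inter _ _ _ (constructibleTopology (U : Scheme.{u})) hE
      (@isClosed_iInter _ _ (constructibleTopology (U : Scheme.{u})) _ fun V => (Spectral.isClopen_cons V.2.1 V.2.2.1).1)
  haveI : CompactSpace C := isCompact_iff_compactSpace.1 hC
  obtain ⟨⟨rU, hrC⟩, -, hrcl⟩ := IsClosed.exists_closed_singleton (isClosed_univ (X := C)) ⟨⟨e, heE, hew⟩, trivial⟩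
  let r : W.left := U.ι rU
  have hrA : r ∉ A := (hE' rU).1 hrC.1
  have hrw : r ⤳ w0 := hrC.2.map U.ι.continuous
  have hmax : ∀ z, r ⤳ z → z ⤳ w0 → z ∉ A → z = r := fun z h1 h2 h3 => by
    have hzU : z ∈ U := h2.mem_open U.2 hwU
    have h4 : (⟨z, hzU⟩ : (U : Scheme.{u})) ∈ C :=
      ⟨(hE' _).2 h3, U.ι.isOpenEmbedding.isInducing.specializes_iff.1 h2⟩
    have h5 : (⟨rU, hrC⟩ : C) ⤳ ⟨⟨z, hzU⟩, h4⟩ :=
      (subtype_specializes_iff _ _).2 (U.ι.isOpenEmbedding.isInducing.specializes_iff.1 h1)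
    exact congrArg (fun z : C => U.ι z.1) (h5.mem_closed hrcl rfl : (⟨⟨z, hzU⟩, h4⟩ : C) = ⟨rU, hrC⟩)
  -- a section agreeing with `t` over `r`
  obtain ⟨Ω, _, _, η, hη⟩ := exists_algClosed_point r
  let wr : (Scheme.pointSmallEtale (η ≫ W.hom)).fiber.obj W := Over.homMk η rfl
  let yr := (Scheme.pointSmallEtale (η ≫ W.hom)).fiber.map a wr
  have := hc Ω (η ≫ W.hom)
  obtain ⟨z₀⟩ : Nonempty ↥(pullback f (η ≫ W.hom)) := inferInstance
  obtain ⟨W', a', w', s', ha', hz'⟩ := exists_mem_O f F yr t z₀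
  obtain ⟨R, b, b', ρ, hb, hb', hbb⟩ := exists_refine yr (a := a) (w := wr) rfl ha'
  let r₂ : R.left := ρ.left (default : Spec (CommRingCat.of Ω))
  have hbr : b.left r₂ = r := by
    refine Eq.trans ?_ hη
    refine (Scheme.Hom.comp_apply _ _ _).symm.trans ?_
    exact congrArg (fun k : (Scheme.pointSmallEtale (η ≫ W.hom)).fiber.obj W => k.left (default : Spec (CommRingCat.of Ω))) hb
  let pR : ((EtCoh.bc f).obj R).left ⟶ R.left := pullback.fst R.hom f
  let L₁ := locus f F t (b ≫ a) (F.obj.map b.op s)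
  let L₂ := locus f F t (b ≫ a) (F.obj.map b'.op s')
  have hL₁ : ∀ q, q ∈ L₁ ↔ b.left (pR q) ∈ A := fun q => by
    have e : p (((EtCoh.bc f).map b).left q) = b.left (pR q) := EtaLocal.fst_map f b q
    exact ⟨fun h => ⟨_, map_mem_locus f F t b rfl h, e⟩, fun h => mem_locus_of_map f F t b rfl (hsat _ (Eq.subst (motive := fun y => y ∈ A) e.symm h))⟩
  have hL₂ : ∀ q, pR q = r₂ → q ∈ L₂ := fun q hq => by
    refine locus_saturated f F hc t (b ≫ a) (F.obj.map b'.op s')
      (q := fibreMap (IsPullback.of_hasPullback f (η ≫ W.hom)) R ρ z₀) (hq.trans ?_)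
      (mem_locus_of_map f F t b' hbb.symm (by rw [fibreMap_base, hb']; exact hz'))
    refine Eq.symm ((Scheme.Hom.comp_apply _ _ _).symm.trans ((congrArg (fun k : pullback f (η ≫ W.hom) ⟶ R.left => k z₀)
      (pullback.lift_fst _ _ _)).trans ((Scheme.Hom.comp_apply _ _ _).trans ?_)))
    exact congrArg ρ.left (Subsingleton.elim (α := Spec (CommRingCat.of Ω)) _ _)
  obtain ⟨hpRC, _, _⟩ := crit_etale f hf R
  let E : Set R.left := {x | ∃ (R' : S.Etale) (d : R' ⟶ R) (x' : R'.left), d.left x' = x ∧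
    F.obj.map d.op (F.obj.map b.op s) = F.obj.map d.op (F.obj.map b'.op s')}
  have hEo : IsOpen E := isOpen_iff_forall_mem_open.2 fun x ⟨R', d, x', h1, h2⟩ => by
    haveI := etale_left d
    exact ⟨Set.range d.left, by rintro _ ⟨y, rfl⟩; exact ⟨R', d, y, rfl, h2⟩, d.left.isOpenMap.isOpen_range, x', h1⟩
  have hE₁ : ∀ q, q ∈ L₁ → q ∈ L₂ → pR q ∈ E := fun q h1 h2 => by
    obtain ⟨K, _, _, θ, hθ⟩ := exists_algClosed_point (pR q)
    let pt : (Scheme.pointSmallEtale (θ ≫ R.hom)).fiber.obj R := Over.homMk θ rfl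
    obtain ⟨z, rfl⟩ := exists_fibreMap_eq (IsPullback.of_hasPullback f (θ ≫ R.hom)) R pt q hθ.symm
    have hg := germ_eq_of_mem f F ((Scheme.pointSmallEtale (θ ≫ R.hom)).fiber.map (b ≫ a) pt) t (a := b ≫ a)
      (a' := b ≫ a) rfl rfl (z := z) h1 h2
    obtain ⟨R', d, x', hd, hd'⟩ := ((Scheme.pointSmallEtale (θ ≫ R.hom)).toPresheafFiber_eq_iff' _ _ _ _).1 hg
    refine ⟨R', d, x'.left (default : Spec (CommRingCat.of K)), ?_, hd'⟩
    refine (Scheme.Hom.comp_apply _ _ _).symm.trans (Eq.trans ?_ hθ)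
    exact congrArg (fun k : (Scheme.pointSmallEtale (θ ≫ R.hom)).fiber.obj R => k.left (default : Spec (CommRingCat.of K))) hd
  have hr₂E : r₂ ∉ E := fun ⟨R', d, x', hx', hd⟩ => by
    obtain ⟨hpC', _, _⟩ := crit_etale f hf R'
    obtain ⟨q', hq'⟩ := hpC'.surjective x'
    have h3 : ((EtCoh.bc f).map d).left q' ∈ L₂ := hL₂ _ ((EtaLocal.fst_map f d q').trans ((congrArg d.left hq').trans hx'))
    have h4 := mem_locus_of_map f F t d rfl h3
    rw [← hd] at h4
    have h5 := (hL₁ _).1 (map_mem_locus f F t d rfl h4)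
    have h6 : pR (((EtCoh.bc f).map d).left q') = r₂ :=
      (EtaLocal.fst_map f d q').trans ((congrArg d.left hq').trans hx')
    rw [h6, hbr] at h5
    exact hrA h5
  haveI : AlgebraicGeometry.Etale b.left := etale_left b
  haveI := Groth.L23.lqf_of_etale b.left
  have hdisc : ∀ x, r₂ ⤳ x → b.left x = r → x = r₂ := fun x h1 h2 => by
    have := isDiscrete_iff_discreteTopology.1 (b.left.isDiscrete_preimage_singleton r)
    have h : (⟨r₂, hbr⟩ : ↥(b.left ⁻¹' {r})) ⤳ ⟨x, h2⟩ := (subtype_specializes_iff _ _).2 h1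
    exact (congrArg Subtype.val h.eq).symm
  by_cases hcase : ∀ x, r₂ ⤳ x → b.left x ⤳ w0 → x = r₂
  · -- the point `r` is open in the interval
    obtain ⟨R₀, hR₀, hr₀, hR₀U⟩ := exists_isAffineOpen_mem_and_subset (X := R.left) (x := r₂) (U := b.left ⁻¹ᵁ U)
      (show b.left r₂ ∈ U from hbr ▸ rU.2)
    haveI : IsAffine (R₀ : Scheme.{u}) := hR₀
    let g := b.left.resLE U R₀ hR₀U
    haveI : QuasiCompact g := quasiCompact_of_compactSpace _
    let Fr := {x : R.left | x ∈ R₀ ∧ b.left x = r ∧ x ≠ r₂}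
    have hFr : Fr.Finite := by
      refine ((g.finite_preimage_singleton rU).image R₀.ι).subset fun x hx => ⟨⟨x, hx.1⟩, ?_, rfl⟩
      apply U.ι.isOpenEmbedding.injective
      rw [← Scheme.Hom.comp_apply, Scheme.Hom.resLE_comp_ι, Scheme.Hom.comp_apply]
      exact hx.2.1
    let N : Set R.left := (R₀ : Set R.left) \ ⋃ x ∈ Fr, closure {x}
    have hNo : IsOpen N := R₀.2.sdiff (hFr.isClosed_biUnion fun x _ => isClosed_closure)
    have hr₂N : r₂ ∈ N := by
      refine ⟨hr₀, fun h => ?_⟩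
      obtain ⟨x, hx, hx'⟩ := Set.mem_iUnion₂.1 h
      refine hx.2.2 ?_
      have h1 := isDiscrete_iff_discreteTopology.1 (b.left.isDiscrete_preimage_singleton r)
      have h2 : (⟨x, hx.2.1⟩ : ↥(b.left ⁻¹' {r})) ⤳ ⟨r₂, hbr⟩ :=
        (subtype_specializes_iff _ _).2 (specializes_iff_mem_closure.2 hx')
      exact congrArg Subtype.val h2.eq
    let O := b.left '' N
    have hOo : IsOpen O := b.left.isOpenMap N hNo
    have hOI : ∀ z, r ⤳ z → z ⤳ w0 → z ∈ O → z = r := by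
      rintro _ h1 h2 ⟨n, hn, rfl⟩
      obtain ⟨x, hxn, hxr⟩ := Flat.generalizingMap b.left h1
      by_cases hx : x = r₂
      · subst hx
        rw [hcase n hxn h2]; exact hbr
      · exact absurd (Set.mem_iUnion₂.2 ⟨x, ⟨hxn.mem_open R₀.2 hn.1, hxr, hx⟩, hxn.mem_closure⟩) hn.2
    obtain ⟨q₁, hq₁⟩ := hpC.surjective w0
    obtain ⟨q₂, hq₂⟩ := hpC.surjective r
    have hcov : p ⁻¹' interval r w0 ⊆ L ∪ p ⁻¹' O := fun q hq => by
      by_cases hA : p q ∈ A
      · exact Or.inl (hsat _ hA)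
      · refine Or.inr ?_
        show p q ∈ O
        rw [hmax _ hq.1 hq.2 hA]
        exact ⟨r₂, hr₂N, hbr⟩
    have hq₁I : p q₁ ∈ interval r w0 := hq₁.symm ▸ (⟨hrw, specializes_rfl⟩ : w0 ∈ interval r w0)
    have hq₂I : p q₂ ∈ interval r w0 := hq₂.symm ▸ (⟨specializes_rfl, hrw⟩ : r ∈ interval r w0)
    have hq₂O : p q₂ ∈ O := hq₂.symm ▸ ⟨r₂, hr₂N, hbr⟩
    obtain ⟨q, hqI, hqL, hqO⟩ := isPreconnected_preimage_interval hpC r w0 L (p ⁻¹' O) hLo
      (hOo.preimage p.continuous) hcov ⟨q₁, hq₁I, hsat _ (hq₁.symm ▸ hw)⟩ ⟨q₂, hq₂I, hq₂O⟩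
    exact hrA ((hOI _ hqI.1 hqI.2 hqO) ▸ ⟨q, hqL, rfl⟩)
  · push Not at hcase
    obtain ⟨x, hx₁, hx₂, hx₃⟩ := hcase
    obtain ⟨q₁, hq₁⟩ := hpRC.surjective x
    obtain ⟨q₂, hq₂⟩ := hpRC.surjective r₂
    have hI : ∀ z ∈ interval r₂ x, z ≠ r₂ → b.left z ∈ A := fun z hz hne => by
      by_contra hA
      exact hne (hdisc z hz.1 (hmax _ (hbr ▸ hz.1.map b.left.continuous) ((hz.2.map b.left.continuous).trans hx₂) hA))
    have hcov : pR ⁻¹' interval r₂ x ⊆ L₁ ∪ L₂ := fun q hq => by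
      by_cases h : pR q = r₂
      · exact Or.inr (hL₂ _ h)
      · exact Or.inl ((hL₁ _).2 (hI _ hq h))
    have hq₁' : pR q₁ = x := hq₁
    have hq₂' : pR q₂ = r₂ := hq₂
    have hq₁I : pR q₁ ∈ interval r₂ x := hq₁'.symm ▸ (⟨hx₁, specializes_rfl⟩ : x ∈ interval r₂ x)
    have hq₂I : pR q₂ ∈ interval r₂ x := hq₂'.symm ▸ (⟨specializes_rfl, hx₁⟩ : r₂ ∈ interval r₂ x)
    have hq₁L : q₁ ∈ L₁ := (hL₁ _).2 (hq₁'.symm ▸ hI x ⟨hx₁, specializes_rfl⟩ hx₃)
    obtain ⟨q, hqI, hq1, hq2⟩ := isPreconnected_preimage_interval hpRC r₂ x L₁ L₂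
      (isOpen_locus f F t _ _) (isOpen_locus f F t _ _) hcov ⟨q₁, hq₁I, hq₁L⟩ ⟨q₂, hq₂I, hL₂ _ hq₂'⟩
    exact hr₂E (hqI.1.mem_open hEo (hE₁ q hq1 hq2))

include hf in
theorem surjective_eta (V : S.Etale) : Function.Surjective (BC.eta f F V) := by
  have hc : ∀ (Ω : Type u) [Field Ω] [IsAlgClosed Ω] (η : Spec (CommRingCat.of Ω) ⟶ S),
      ConnectedSpace ↥(pullback f η) := fun Ω _ _ η => connectedSpace_geomFibre hf Ω η
  intro t
  let Sv : Sieve V :=
    { arrows := fun W a => ∃ s : ToType (F.obj.obj (op W)),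
        BC.eta f F W s = (BC.P f F).obj.map ((EtCoh.bc f).map a).op t
      downward_closed := fun {W W' a} ⟨s, hs⟩ b => ⟨F.obj.map b.op s, by
        rw [BC.eta_naturality, hs]
        simp only [op_comp, Functor.map_comp, ConcreteCategory.comp_apply]⟩ }
  have hcov : Sv ∈ S.smallEtaleTopology V := by
    refine (mem_topology_iff Sv).2 fun x => ?_
    obtain ⟨Ω, _, _, η, hη⟩ := exists_algClosed_point x
    let y : (Scheme.pointSmallEtale (η ≫ V.hom)).fiber.obj V := Over.homMk η rfl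
    have := hc Ω (η ≫ V.hom)
    obtain ⟨z⟩ : Nonempty ↥(pullback f (η ≫ V.hom)) := inferInstance
    obtain ⟨W, a, w, s, ha, hz⟩ := exists_mem_O f F y t z
    let p : ((EtCoh.bc f).obj W).left ⟶ W.left := pullback.fst W.hom f
    let O₀ : W.left.Opens := ⟨interior (p.base '' locus f F t a s), isOpen_interior⟩
    haveI : AlgebraicGeometry.Etale W.hom := W.prop
    let W₀ : S.Etale := Scheme.Etale.mk (O₀.ι ≫ W.hom)
    let ι₀ : W₀ ⟶ W := MorphismProperty.Over.homMk O₀.ι rfl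
    have hmemO : w.left.base (default : Spec (CommRingCat.of Ω)) ∈ O₀ := by
      refine mem_interior_image f hf F t a s ⟨_, hz, ?_⟩
      refine (Scheme.Hom.comp_apply _ _ _).symm.trans ((congrArg (fun k : pullback f (η ≫ V.hom) ⟶ W.left => k z)
        (pullback.lift_fst _ _ _)).trans ((Scheme.Hom.comp_apply _ _ _).trans ?_))
      exact congrArg w.left.base (Subsingleton.elim (α := Spec (CommRingCat.of Ω)) _ _)
    refine ⟨W₀, ι₀ ≫ a, ⟨w.left.base (default : Spec (CommRingCat.of Ω)), hmemO⟩, ⟨F.obj.map ι₀.op s, ?_⟩, ?_⟩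
    · refine ext_of_locally (BC.P f F) fun q => ?_
      have hq : ((EtCoh.bc f).map ι₀).left.base q ∈ locus f F t a s := by
        obtain ⟨q₀, hq₀, e⟩ := interior_subset ((pullback.fst W₀.hom f).base q).2
        refine locus_saturated f F hc t a s ?_ hq₀
        exact (EtaLocal.fst_map f ι₀ q).trans e.symm
      obtain ⟨Q, c, q', hq', hcq⟩ := mem_locus_of_map f F t ι₀ rfl hq
      exact ⟨Q, c, q', hq', hcq.symm⟩
    · refine Eq.trans ?_ hη
      refine Eq.trans ?_ (congrArg (fun e : (Scheme.pointSmallEtale (η ≫ V.hom)).fiber.obj V =>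
        e.left.base (default : Spec (CommRingCat.of Ω))) ha)
      exact (Scheme.Hom.comp_apply _ _ _).trans (Scheme.Hom.comp_apply _ _ _).symm
  have hF := ((isSheaf_iff_isSheaf_of_type _ _).1 ((sheafCompose S.smallEtaleTopology (forget A)).obj F).property) Sv hcov
  let fam : Presieve.FamilyOfElements (F.obj ⋙ forget A) Sv.arrows := fun W a h => h.choose
  have hfam : fam.Compatible := by
    intro W₁ W₂ R g₁ g₂ a₁ a₂ h₁ h₂ e
    refine injective_eta f F hc R ?_
    show BC.eta f F R (F.obj.map g₁.op h₁.choose) = BC.eta f F R (F.obj.map g₂.op h₂.choose)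
    rw [BC.eta_naturality, BC.eta_naturality, h₁.choose_spec, h₂.choose_spec]
    simp only [← ConcreteCategory.comp_apply, ← Functor.map_comp, ← op_comp, e]
  obtain ⟨s, hs, -⟩ := hF fam hfam
  refine ⟨s, ext_of_locally (BC.P f F) fun q => ?_⟩
  obtain ⟨W, a, ha, w, hw⟩ : ∃ (W : S.Etale) (a : W ⟶ V), Sv.arrows a ∧ ∃ w, a.left.base w = pullback.fst V.hom f q := by
    obtain ⟨W, a, w, h1, h2⟩ := (mem_topology_iff Sv).1 hcov (pullback.fst V.hom f q)
    exact ⟨W, a, h1, w, h2⟩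
  obtain ⟨r, -, hr⟩ := Scheme.exists_preimage_of_isPullback (EtCoh.isPullback_bc_map f a).flip w q hw
  refine ⟨_, (EtCoh.bc f).map a, r, hr, ?_⟩
  rw [← BC.eta_naturality, show F.obj.map a.op s = ha.choose from hs a ha, ha.choose_spec]

include hf in
theorem bijective_eta (V : S.Etale) : Function.Bijective (BC.eta f F V) :=
  ⟨CF.injective_eta f F (fun Ω _ _ η => connectedSpace_geomFibre hf Ω η) V, surjective_eta f hf F V⟩

end Groth.L23.ZeroAcyc
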