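import Groth.Agent.L23.ZeroAcyc.Const
import Groth.Agent.L23.ZeroAcyc.Surj
import Groth.Agent.L10.EtSecPull.Descent
import Groth.Agent.L27.BigSets.ProperBC
import Groth.Prelude.Def_EtAcyc
import Mathlib.AlgebraicGeometry.ZariskisMainTheorem

/-! # The criterion for 0-acyclicity by constant sheaves -/

universe u

open CategoryTheory CategoryTheory.Limits AlgebraicGeometry Opposite TopologicalSpace Topology

set_option autoImplicit false
set_option maxSynthPendingDepth 3
set_option backward.isDefEq.respectTransparency.types false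
set_option linter.style.haveILetI false
set_option linter.unusedSectionVars false
set_option linter.unusedVariables false

noncomputable section

namespace Groth.L23.ZeroAcyc

open Groth.L06

/-- A quasi-finite morphism is, etale locally on source and target, finite. -/
theorem exists_piece {S S' : Scheme.{u}} (i : S' ⟶ S) [LocallyQuasiFinite i] [LocallyOfFiniteType i] (y : S') :
    ∃ (V : S.Etale) (Z : Scheme.{u}) (h : Z ⟶ V.left) (_ : IsFinite h) (q : Z ⟶ S') (_ : AlgebraicGeometry.Etale q)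
      (v : Z), q v = y ∧ q ≫ i = h ≫ V.hom := by
  obtain ⟨U₀, hU₀, hy, -⟩ := exists_isAffineOpen_mem_and_subset (X := S') (x := y) (U := ⊤) trivial
  haveI : IsAffine (U₀ : Scheme.{u}) := hU₀
  let j : (U₀ : Scheme.{u}) ⟶ S := U₀.ι ≫ i
  haveI : LocallyQuasiFinite U₀.ι := inferInstance
  haveI : LocallyQuasiFinite j := inferInstanceAs (LocallyQuasiFinite (U₀.ι ≫ i))
  haveI : LocallyOfFiniteType j := inferInstanceAs (LocallyOfFiniteType (U₀.ι ≫ i))
  haveI : IsSeparated j := IsSeparated.of_comp j (terminal.from S)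
  obtain ⟨W, g, hg, -, Z, _, v, -, hfin, hv⟩ :=
    exists_etale_isCompl_of_quasiFiniteAt j (x := ⟨y, hy⟩) rfl (j.quasiFiniteAt _)
  haveI := hg
  refine ⟨Scheme.Etale.mk g, Z, Z.ι ≫ pullback.snd j g, hfin, (Z.ι ≫ pullback.fst j g) ≫ U₀.ι, inferInstance, v, ?_, ?_⟩
  · rw [Scheme.Hom.comp_apply, Scheme.Hom.comp_apply]
    exact congrArg U₀.ι hv
  · show ((Z.ι ≫ pullback.fst j g) ≫ U₀.ι) ≫ i = (Z.ι ≫ pullback.snd j g) ≫ g
    simp only [Category.assoc]
    exact congrArg (Z.ι ≫ ·) pullback.condition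

/-- Locally closed subsets underlie immersions. -/
theorem exists_immersion {S : Scheme.{u}} (D : S.Opens) (C : Set S) (hC : IsClosed C) :
    ∃ (Y : Scheme.{u}) (i : Y ⟶ S), IsImmersion i ∧ Set.range i = (D : Set S) ∩ C := by
  let Z : Closeds (D : Scheme.{u}) := ⟨D.ι ⁻¹' C, hC.preimage D.ι.continuous⟩
  let J := Scheme.IdealSheafData.vanishingIdeal Z
  refine ⟨J.subscheme, J.subschemeι ≫ D.ι, inferInstance, ?_⟩
  rw [show ⇑(J.subschemeι ≫ D.ι) = D.ι ∘ J.subschemeι from funext fun x => Scheme.Hom.comp_apply _ _ _, Set.range_comp,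
    Scheme.IdealSheafData.range_subschemeι, Scheme.IdealSheafData.coe_support_vanishingIdeal]
  show D.ι '' (D.ι ⁻¹' C) = _
  rw [Set.image_preimage_eq_inter_range, Scheme.Opens.range_ι, Set.inter_comm]

variable {X Y : Scheme.{u}} (g : X ⟶ Y) [QuasiCompact g] [QuasiSeparated g]

/-- Detection of surjectivity by locally quasi-finite base changes. -/
theorem surjective_of_nonempty
    (H : ∀ (Y' : Scheme.{u}) (i : Y' ⟶ Y) [LocallyQuasiFinite i] [LocallyOfFiniteType i], Nonempty Y' →
      Nonempty ↥(pullback g i)) : Function.Surjective g := by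
  intro y
  by_contra hy
  obtain ⟨U, hU, hyU, -⟩ := exists_isAffineOpen_mem_and_subset (X := Y) (x := y) (U := ⊤) trivial
  haveI : IsAffine (U : Scheme.{u}) := hU
  haveI : QuasiSeparated (g ∣_ U) := IsZariskiLocalAtTarget.restrict ‹QuasiSeparated g› U
  let P := g ⁻¹ᵁ U
  haveI : CompactSpace (P : Scheme.{u}) := isCompact_iff_compactSpace.1 (g.isCompact_preimage hU.isCompact)
  haveI : QuasiSeparatedSpace (P : Scheme.{u}) := quasiSeparatedSpace_of_quasiSeparated (g ∣_ U)
  haveI : SpectralSpace (P : Scheme.{u}) := {}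
  let ι := {D : Y.Opens // IsCompact (D : Set Y) ∧ D ≤ U ∧ y ∈ D}
  haveI : Nonempty ι := ⟨⟨U, hU.isCompact, le_rfl, hyU⟩⟩
  let Zs : ι → Set (P : Scheme.{u}) := fun D => P.ι ⁻¹' (g ⁻¹' ((D.1 : Set Y) ∩ closure {y}))
  obtain ⟨D, hD⟩ := Spectral.exists_subset_of_iInter_subset Zs (fun D D' =>
      ⟨⟨D.1 ⊓ D'.1, hU.isQuasiSeparated _ _ (fun x hx => D.2.2.1 hx) D.1.2 D.2.1 (fun x hx => D'.2.2.1 hx) D'.1.2 D'.2.1,
        fun x hx => D.2.2.1 hx.1, ⟨D.2.2.2, D'.2.2.2⟩⟩, fun x hx => ⟨hx.1.1, hx.2⟩, fun x hx => ⟨hx.1.2, hx.2⟩⟩)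
    (fun D => @IsClosed.inter _ _ _ (constructibleTopology (P : Scheme.{u}))
      (Spectral.isClopen_cons (D.1.2.preimage (P.ι ≫ g).continuous) (by
        refine P.ι.isEmbedding.isInducing.isCompact_iff.2 ?_
        show IsCompact (P.ι '' ((fun x => g (P.ι x)) ⁻¹' (D.1 : Set Y)))
        refine (congrArg IsCompact ?_).mpr (g.isCompact_preimage D.2.1)
        refine Set.ext fun x => ⟨?_, fun hx => ⟨⟨x, D.2.2.1 hx⟩, hx, rfl⟩⟩
        rintro ⟨z, hz, rfl⟩
        exact hz)).1
      (Spectral.isClosed_cons_of_isClosed (isClosed_closure.preimage (P.ι ≫ g).continuous) :))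
    (V := ∅) (@isOpen_empty _ (constructibleTopology (P : Scheme.{u}))) (fun x hx => hy ⟨P.ι x, by
      refine Specializes.antisymm ?_ ?_ |>.eq
      · refine specializes_iff_forall_open.2 fun V hV hyV => ?_
        obtain ⟨D, hD, hyD, hDV⟩ := exists_isAffineOpen_mem_and_subset (X := Y) (x := y) (U := ⟨V, hV⟩ ⊓ U) ⟨hyV, hyU⟩
        exact (hDV (Set.mem_iInter.1 hx ⟨D, hD.isCompact, fun x hx => (hDV hx).2, hyD⟩).1).1
      · exact specializes_iff_mem_closure.2 (Set.mem_iInter.1 hx (Classical.arbitrary ι)).2⟩)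
  obtain ⟨Y', i, hi, hr⟩ := exists_immersion D.1 (closure {y}) isClosed_closure
  haveI := hi
  have hne : Nonempty Y' := by
    have hyr : y ∈ Set.range i := hr.symm ▸ ⟨D.2.2.2, subset_closure rfl⟩
    exact ⟨hyr.choose⟩
  obtain ⟨z⟩ := H Y' i hne
  have hz : g (pullback.fst g i z) ∈ (D.1 : Set Y) ∩ closure {y} := by
    rw [← hr, ← Scheme.Hom.comp_apply, pullback.condition, Scheme.Hom.comp_apply]
    exact ⟨_, rfl⟩
  exact hD (show (⟨pullback.fst g i z, D.2.2.1 hz.1⟩ : (P : Scheme.{u})) ∈ Zs D from hz)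

variable (I : Type u) [Nontrivial I]

theorem nonempty_of_injective_pullFn {T S : Scheme.{u}} (f : T ⟶ S) (h : Function.Injective (pullFn (I := I) f))
    (hS : Nonempty S) : Nonempty T := by
  by_contra hT
  rw [not_nonempty_iff] at hT
  obtain ⟨a, b, hab⟩ := exists_pair_ne I
  exact hab (congrArg (fun l : LocallyConstant S I => l hS.some)
    (h (a₁ := LocallyConstant.const S a) (a₂ := LocallyConstant.const S b) (LocallyConstant.ext fun x => isEmptyElim x)))

theorem injective_pullFn {T S : Scheme.{u}} (f : T ⟶ S) (h : Function.Surjective f) :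
    Function.Injective (pullFn (I := I) f) := fun a b hab => LocallyConstant.ext fun y => by
  obtain ⟨x, rfl⟩ := h y
  exact congrArg (fun l : LocallyConstant T I => l x) hab

theorem crit_of_bijective
    (H : ∀ (Y' : Scheme.{u}) (i : Y' ⟶ Y) [LocallyQuasiFinite i] [LocallyOfFiniteType i],
      Function.Bijective (pullFn (I := I) (pullback.snd g i))) : Crit g := by
  have hs : Function.Surjective g := surjective_of_nonempty g fun Y' i _ _ hne =>
    nonempty_of_injective_pullFn I _ (H Y' i).1 hne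
  intro Y' X' i _ _ b f' hsq
  refine ⟨fun y => ?_, fun C hC => ?_⟩
  · obtain ⟨x, hx⟩ := hs (i y)
    obtain ⟨z, -, hz⟩ := Scheme.exists_preimage_of_isPullback hsq x y hx
    exact ⟨z, hz⟩
  · obtain ⟨a, c, hac⟩ := exists_pair_ne I
    classical
    let e := hsq.isoPullback
    let f₀ := pullback.snd g i
    have hC' : IsClopen (e.inv ⁻¹' C) := hC.preimage e.inv.continuous
    let φ : LocallyConstant ↥(pullback g i) I :=
      ⟨fun x => if x ∈ e.inv ⁻¹' C then a else c, (IsLocallyConstant.iff_exists_open _).2 fun x => by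
        by_cases hx : x ∈ e.inv ⁻¹' C
        · exact ⟨_, hC'.2, hx, fun y hy => by simp only [if_pos hx, if_pos hy]⟩
        · exact ⟨_, hC'.1.isOpen_compl, hx, fun y hy => by simp only [if_neg hx, if_neg (show y ∉ _ from hy)]⟩⟩
    obtain ⟨ψ, hψ⟩ := (H Y' i).2 φ
    refine ⟨ψ ⁻¹' {a}, ⟨(ψ.isLocallyConstant.isClopen_fiber a).1, (ψ.isLocallyConstant.isClopen_fiber a).2⟩, ?_⟩
    ext x
    have h1 : ψ (f' x) = if e.inv (e.hom x) ∈ C then a else c := by
      refine Eq.trans (congrArg ψ ?_) (congrArg (fun l : LocallyConstant ↥(pullback g i) I => l (e.hom x)) hψ)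
      show f' x = pullback.snd g i (e.hom x)
      rw [← Scheme.Hom.comp_apply, hsq.isoPullback_hom_snd]
    rw [show e.inv (e.hom x) = x from (Scheme.Hom.comp_apply _ _ _).symm.trans (by rw [e.hom_inv_id]; rfl)] at h1
    show ψ (f' x) = a ↔ x ∈ C
    rw [h1]
    split_ifs with h
    · exact iff_of_true rfl h
    · exact iff_of_false (fun e => hac e.symm) h

section Units

variable {V : Y.Etale}

theorem bijective_secPull_of_isIso {T S : Scheme.{u}} (f : T ⟶ S) (F : EtDesc.Sh S)
    [IsIso ((EtDesc.adjSh f).unit.app F)] : Function.Bijective (EtDesc.secPull f F) := by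
  have h1 := ConcreteCategory.bijective_of_isIso
    (((sheafToPresheaf _ _).map ((EtDesc.adjSh f).unit.app F)).app (op (EtCoh.top S)))
  have h2 := ConcreteCategory.bijective_of_isIso (((EtDesc.pullSh f).obj F).obj.map (EtCore.bcTopIso f).inv.op)
  exact h2.comp h1

theorem injective_secPull_of_mono {T S : Scheme.{u}} (f : T ⟶ S) (F : EtDesc.Sh S)
    [Mono ((EtDesc.adjSh f).unit.app F)] : Function.Injective (EtDesc.secPull f F) := by
  have h2 := ConcreteCategory.bijective_of_isIso (((EtDesc.pullSh f).obj F).obj.map (EtCore.bcTopIso f).inv.op)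
  exact h2.1.comp (L27.EtSite.DescSections.injective_app ((EtDesc.adjSh f).unit.app F) (op (EtCoh.top S)))

theorem piece_square {Y' Z : Scheme.{u}} (i : Y' ⟶ Y) (V : Y.Etale) (h : Z ⟶ V.left) (q : Z ⟶ Y')
    (w : q ≫ i = h ≫ V.hom) :
    ∃ m : pullback (pullback.snd g i) q ⟶ pullback V.hom g,
      IsPullback (pullback.snd (pullback.snd g i) q) m h (EtAcyc.prj g V) := by
  have big := (IsPullback.of_hasPullback (pullback.snd g i) q).paste_horiz (IsPullback.of_hasPullback g i)
  rw [w] at big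
  let b := pullback.fst (pullback.snd g i) q ≫ pullback.fst g i
  refine ⟨pullback.lift (pullback.snd (pullback.snd g i) q ≫ h) b ((Category.assoc _ _ _).trans big.w.symm), ?_⟩
  refine (IsPullback.of_right (h₁₂ := pullback.snd V.hom g) ?_ (pullback.lift_fst _ _ _)
    (IsPullback.of_hasPullback V.hom g).flip).flip
  rw [pullback.lift_snd]
  exact big

theorem bijective_piece (hg : EtAcyc.IsZeroAcyclic g) {Y' Z : Scheme.{u}} (i : Y' ⟶ Y) (V : Y.Etale)
    (h : Z ⟶ V.left) [IsFinite h] (q : Z ⟶ Y') (w : q ≫ i = h ≫ V.hom) :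
    Function.Bijective (pullFn (I := I) (pullback.snd (pullback.snd g i) q)) := by
  obtain ⟨m, sq⟩ := piece_square g i V h q w
  refine (bijective_secPull_iff _).1 ?_
  refine (L10.EtSecPull.secPull_injective_bijective (EtAcyc.prj g V) h (pullback.snd (pullback.snd g i) q) m sq.w).2
    (fun F => ?_) (fun Fb => L27.BigSets.isIso_baseChange0Sh sq Fb) _
  haveI := hg V F
  exact bijective_secPull_of_isIso _ F

theorem injective_piece (hg : EtAcyc.IsMinusOneAcyclic g) {Y' Z : Scheme.{u}} (i : Y' ⟶ Y) (V : Y.Etale)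
    (h : Z ⟶ V.left) [IsFinite h] (q : Z ⟶ Y') (w : q ≫ i = h ≫ V.hom) :
    Function.Injective (pullFn (I := I) (pullback.snd (pullback.snd g i) q)) := by
  obtain ⟨m, sq⟩ := piece_square g i V h q w
  refine (injective_secPull_iff _).1 ?_
  refine (L10.EtSecPull.secPull_injective_bijective (EtAcyc.prj g V) h (pullback.snd (pullback.snd g i) q) m sq.w).1
    (fun F => ?_) (fun Fb => ?_) _
  · haveI := hg V F
    exact injective_secPull_of_mono _ F
  · haveI := L27.BigSets.isIso_baseChange0Sh sq Fb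
    infer_instance

include I in
theorem surjective_of_minusOne (hg : EtAcyc.IsMinusOneAcyclic g) : Function.Surjective g := by
  refine surjective_of_nonempty g fun Y' i _ _ ⟨y⟩ => ?_
  obtain ⟨V, Z, h, _, q, _, v, -, w⟩ := exists_piece i y
  obtain ⟨z⟩ := nonempty_of_injective_pullFn I _ (injective_piece g I hg i V h q w) ⟨v⟩
  exact ⟨pullback.fst (pullback.snd g i) q z⟩

theorem bijective_of_zero (hg : EtAcyc.IsZeroAcyclic g) (Y' : Scheme.{u}) (i : Y' ⟶ Y) [LocallyQuasiFinite i]
    [LocallyOfFiniteType i] : Function.Bijective (pullFn (I := I) (pullback.snd g i)) := by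
  haveI : Surjective g := ⟨surjective_of_minusOne g I fun V F => haveI := hg V F; inferInstance⟩
  let f' := pullback.snd g i
  refine ⟨injective_pullFn I f' f'.surjective, fun φ => ?_⟩
  have key : ∀ y, ∃ (Z : Scheme.{u}) (q : Z ⟶ Y') (_ : AlgebraicGeometry.Etale q) (v : Z) (ψ : LocallyConstant Z I),
      q v = y ∧ ∀ z x, f' x = q z → φ x = ψ z := fun y => by
    obtain ⟨V, Z, h, _, q, hq, v, hv, w⟩ := exists_piece i y
    obtain ⟨ψ, hψ⟩ := (bijective_piece g I hg i V h q w).2 (φ.comap ⟨(pullback.fst f' q).base, (pullback.fst f' q).continuous⟩)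
    refine ⟨Z, q, hq, v, ψ, hv, fun z x hx => ?_⟩
    obtain ⟨p, hp₁, hp₂⟩ := Scheme.Pullback.exists_preimage_pullback x z hx
    rw [← hp₁, ← hp₂]
    exact (congrArg (fun l : LocallyConstant ↥(pullback f' q) I => l p) hψ).symm
  choose Z q hq v ψ hv hψ using key
  let Ψ : Y' → I := fun y => ψ y (v y)
  have hΨ : ∀ y z, Ψ (q y z) = ψ y z := fun y z => by
    obtain ⟨x, hx⟩ := f'.surjective (q y z)
    exact (hψ (q y z) _ x (hx.trans (hv _).symm)).symm.trans (hψ y z x hx)
  refine ⟨⟨Ψ, (IsLocallyConstant.iff_exists_open _).2 fun y => ?_⟩, LocallyConstant.ext fun x => ?_⟩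
  · haveI := hq y
    refine ⟨q y '' (ψ y ⁻¹' {Ψ y}), (q y).isOpenMap _ ((ψ y).isLocallyConstant _), ⟨v y, rfl, hv y⟩, ?_⟩
    rintro _ ⟨z, hz, rfl⟩
    exact (hΨ y z).trans hz
  · exact (hψ (f' x) _ x (hv _).symm).symm

/-- The criterion. -/
theorem criterion :
    (EtAcyc.IsZeroAcyclic g ↔
      ∀ (Y' : Scheme.{u}) (i : Y' ⟶ Y) [LocallyQuasiFinite i] [LocallyOfFiniteType i],
        Function.Bijective (EtDesc.secPull (pullback.snd g i)
          ((constantSheaf Y'.smallEtaleTopology (Type (u + 1))).obj (ULift.{u + 1} I)))) ∧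
    (EtAcyc.IsMinusOneAcyclic g ↔
      ∀ (Y' : Scheme.{u}) (i : Y' ⟶ Y) [LocallyQuasiFinite i] [LocallyOfFiniteType i],
        Function.Injective (EtDesc.secPull (pullback.snd g i)
          ((constantSheaf Y'.smallEtaleTopology (Type (u + 1))).obj (ULift.{u + 1} I)))) := by
  refine ⟨⟨fun hg Y' i _ _ => (bijective_secPull_iff _).2 (bijective_of_zero g I hg Y' i), fun H V F => ?_⟩,
    ⟨fun hg Y' i _ _ => ?_, fun H V F => ?_⟩⟩
  · have hc : Crit g := crit_of_bijective g I fun Y' i _ _ => (bijective_secPull_iff _).1 (H Y' i)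
    obtain ⟨hcV, _, _⟩ := crit_etale g hc V
    let f := EtAcyc.prj g V
    let φ := (EtDesc.adjSh f).unit.app F
    haveI : IsIso φ.hom := (NatTrans.isIso_iff_isIso_app _).2 fun W =>
      (isIso_iff_bijective _).2 (bijective_eta f hcV F W.unop)
    haveI : IsIso ((sheafToPresheaf _ _).map φ) := inferInstanceAs (IsIso φ.hom)
    exact isIso_of_reflects_iso φ (sheafToPresheaf _ _)
  · haveI : Surjective g := ⟨surjective_of_minusOne g I hg⟩
    exact (injective_secPull_iff _).2 (injective_pullFn I _ (pullback.snd g i).surjective)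
  · haveI : Surjective g := ⟨surjective_of_nonempty g fun Y' i _ _ hne =>
      nonempty_of_injective_pullFn I _ ((injective_secPull_iff _).1 (H Y' i)) hne⟩
    haveI : Surjective (EtAcyc.prj g V) := MorphismProperty.pullback_fst _ _ ‹Surjective g›
    exact L10.EtSecPull.mono_unit (EtAcyc.prj g V) F

end Units

end Groth.L23.ZeroAcyc
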